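import Cfsg.Agent.Lib.Sporadic.J3Elt
import Cfsg.Agent.Lib.Sporadic.J3Simple

/-!
# An element normalising a subgroup of order 19 of J3

The packed coordinates below name an element that raises the listed element of order 19 to its
fourth power, an automorphism of order 9.
-/

set_option autoImplicit false

namespace CfsgLib.Known.JankoThreeNorm

open Cfsg Cfsg.Spor CfsgLib.Sporadic.J3 Data Matrix
open scoped MatrixGroups

/-- Coordinates of the normalising element. -/
noncomputable def wit : ℕ := 25529143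

theorem wit_ok : (tripleOK wit && Nat.beq (mm (triple wit) (wcode word19))
    (mm (mpow (wcode word19) 4) (triple wit))) = true := by decide +kernel

variable {F : Type*} [Field F] [CharP F 2] [Fintype F] {ω : F} (hω : ω ^ 2 + ω + 1 = 0)
include hω

theorem rep_pow {g : J3 F ω} {M : ℕ} (h : Rep g M) : ∀ n : ℕ, Rep (g ^ n) (mpow M n)
  | 0 => by rw [pow_zero]; exact rep_one hω
  | n + 1 => by rw [pow_succ']; exact rep_mul hω h (rep_pow h n)

theorem exists_witness (hF : Fintype.card F = 4) : ∃ x w : J3 F ω, orderOf x = 19 ∧ w * x * w⁻¹ = x ^ 4 ∧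
    ∀ y : J3 F ω, Commute y x → (orderOf y).Prime → orderOf y = 3 ∨ orderOf y = 19 := by
  obtain ⟨⟨g, hg, eg, og⟩, -⟩ := word_elts hω
  haveI : Fact (Nat.Prime 19) := ⟨by norm_num⟩
  have og' : orderOf (⟨g, hg⟩ : threeJ3 F ω) = 19 := by rw [Subgroup.orderOf_mk, og]
  have hx : Rep (QuotientGroup.mk ⟨g, hg⟩ : J3 F ω) (wcode word19) := ⟨_, rfl, eg⟩
  have h := wit_ok
  rw [Bool.and_eq_true, Nat.beq_eq] at h
  refine ⟨QuotientGroup.mk ⟨g, hg⟩, el hω wit, orderOf_eq_prime ?_ fun e => ?_, ?_, ?_⟩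
  · rw [← QuotientGroup.mk_pow, ← og', pow_orderOf_eq_one]; rfl
  · have hu' := (QuotientGroup.eq_one_iff _).1 e
    have := orderOf_dvd_natCard (⟨_, hu'⟩ : Subgroup.center (threeJ3 F ω))
    rw [card_center hω hF, Subgroup.orderOf_mk, og'] at this
    norm_num at this
  · rw [mul_inv_eq_iff_eq_mul]
    exact rep_unique hω (h.2 ▸ rep_mul hω (rep_el hω h.1) hx) (rep_mul hω (rep_pow hω hx 4) (rep_el hω h.1))
  · intro y hy hp
    obtain ⟨y, rfl⟩ := QuotientGroup.mk_surjective y
    have hc := commute_lift hω hF (n := 19) (by norm_num) (by rw [← og', pow_orderOf_eq_one]) hy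
    have hY : Commute ((y : GL F9 F) : Matrix F9 F9 F) (X19 ω) := by
      rw [← eg]
      exact congrArg (fun u : threeJ3 F ω => ((u : GL F9 F) : Matrix F9 F9 F)) hc.eq
    have h1 : (QuotientGroup.mk y : J3 F ω) ^ (4 ^ 9 - 1) = 1 := by
      rw [← QuotientGroup.mk_pow, show y ^ (4 ^ 9 - 1) = 1 from Subtype.ext (pow_commutant hω hF hY)]
      rfl
    have d2 := orderOf_dvd_natCard (QuotientGroup.mk y : J3 F ω)
    rw [card_J3 hω hF] at d2
    have := Nat.dvd_gcd (orderOf_dvd_of_pow_eq_one h1) d2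
    rw [show Nat.gcd (4 ^ 9 - 1) 50232960 = 3 ^ 3 * 19 by norm_num] at this
    rcases hp.dvd_mul.1 this with h | h
    · exact Or.inl ((Nat.prime_dvd_prime_iff_eq hp Nat.prime_three).1 (hp.dvd_of_dvd_pow h))
    · exact Or.inr ((Nat.prime_dvd_prime_iff_eq hp (by norm_num)).1 h)

end CfsgLib.Known.JankoThreeNorm
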