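import Cfsg.Agent.Lib.Known.JankoThreeNormalizers.Concrete
import Mathlib

/-!
# Normalisers of the Sylow subgroups of orders 17 and 19 in groups of J3 type

The counts of Sylow subgroups decide both normalisers once the order, the prime divisors of the two
centralisers and the absence of elements of order 16 are known.
-/

set_option autoImplicit false

namespace CfsgLib.Known.JankoThreeNorm

open Subgroup

variable {G : Type*} [Group G] [Finite G]

/-- The conclusion for one Sylow subgroup. -/
def NormShape {p : ℕ} (X : Sylow p G) (e : ℕ) : Prop :=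
  centralizer ((X : Subgroup G) : Set G) = X ∧
    ∃ h : ((X : Subgroup G).subgroupOf (normalizer ((X : Subgroup G) : Set G))).Normal,
      IsCyclic (↥(normalizer ((X : Subgroup G) : Set G)) ⧸ (X : Subgroup G).subgroupOf _) ∧
      Nat.card (↥(normalizer ((X : Subgroup G) : Set G)) ⧸ (X : Subgroup G).subgroupOf _) = e

theorem sylow_card_prime {p : ℕ} [Fact p.Prime] {m r : ℕ} (hG : Nat.card G = p * m) (hr : m % p = r) (hr0 : r ≠ 0)
    (X : Sylow p G) : Nat.card (X : Subgroup G) = p := by
  have hp : p.Prime := Fact.out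
  have hm : ¬ p ∣ m := fun h => hr0 (by rw [← hr, Nat.mod_eq_zero_of_dvd h])
  rw [X.card_eq_multiplicity, hG, Nat.factorization_mul hp.ne_zero (fun h => hm (by rw [h]; exact dvd_zero p)),
    Finsupp.add_apply, Nat.factorization_eq_zero_of_not_dvd hm, hp.factorization_self, add_zero, pow_one]

/-- Counting data for a Sylow subgroup of prime order. -/
theorem sylow_data {p : ℕ} [Fact p.Prime] {m r : ℕ} (hG : Nat.card G = p * m) (hr : m % p = r) (hr0 : r ≠ 0)
    (X : Sylow p G) {K : ℕ} (hK : ∀ q : ℕ, q.Prime → ∀ y ∈ centralizer ((X : Subgroup G) : Set G), orderOf y = q →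
      q = p ∨ ¬ Nat.Coprime q K) (hKm : ∀ c, c ∣ m → (∀ q : ℕ, q.Prime → q ∣ c → ¬ Nat.Coprime q K) → c ∣ K) :
    ∃ c n : ℕ, c ∣ K ∧ Nat.card (normalizerMonoidHom (X : Subgroup G)).range ∣ p - 1 ∧
      c * Nat.card (normalizerMonoidHom (X : Subgroup G)).range * n = m ∧ n % p = 1 ∧
      Nat.card (centralizer ((X : Subgroup G) : Set G)) = p * c := by
  have hp : p.Prime := Fact.out
  have hX := sylow_card_prime hG hr hr0 X
  haveI : IsCyclic (X : Subgroup G) := isCyclic_of_prime_card hX
  haveI : IsMulCommutative (X : Subgroup G) := inferInstance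
  have hXC : (X : Subgroup G) ≤ centralizer ((X : Subgroup G) : Set G) := Subgroup.le_centralizer _
  obtain ⟨c, hc⟩ : p ∣ Nat.card (centralizer ((X : Subgroup G) : Set G)) := by
    conv_lhs => rw [← hX]
    exact card_dvd_of_le hXC
  have hCN : centralizer ((X : Subgroup G) : Set G) ≤ normalizer ((X : Subgroup G) : Set G) := by
    intro g hg
    rw [mem_normalizer_iff]
    intro h
    constructor
    · intro hh
      rwa [← mem_centralizer_iff.1 hg h hh, mul_inv_cancel_right]
    · intro hh
      have e := mem_centralizer_iff.1 hg _ hh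
      have : g * h * g⁻¹ = h := by
        have e2 : g * h * g⁻¹ * g = g * (g * h * g⁻¹) := e
        rw [inv_mul_cancel_right] at e2
        exact (mul_left_cancel e2).symm
      rwa [this] at hh
  have hker : Nat.card (normalizerMonoidHom (X : Subgroup G)).ker = Nat.card (centralizer ((X : Subgroup G) : Set G)) := by
    rw [normalizerMonoidHom_ker]
    exact Nat.card_congr (subgroupOfEquivOfLe hCN).toEquiv
  have haut : Nat.card (normalizerMonoidHom (X : Subgroup G)).range ∣ p - 1 := by
    have e : Nat.card (MulAut (X : Subgroup G)) = p - 1 := by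
      rw [IsCyclic.card_mulAut, hX, Nat.totient_prime hp]
    exact e ▸ card_subgroup_dvd_card _
  have hN : Nat.card (normalizer ((X : Subgroup G) : Set G)) =
      p * c * Nat.card (normalizerMonoidHom (X : Subgroup G)).range := by
    rw [← hc, ← hker, mul_comm, ← index_ker, index_mul_card]
  have hn := card_mul_index (normalizer ((X : Subgroup G) : Set G))
  rw [hN, hG, show (normalizer ((X : Subgroup G) : Set G)).index = Nat.card (Sylow p G) from
    X.card_eq_index_normalizer.symm] at hn
  have hm : c * Nat.card (normalizerMonoidHom (X : Subgroup G)).range * Nat.card (Sylow p G) = m := by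
    refine Nat.eq_of_mul_eq_mul_left hp.pos ?_
    rw [← hn]; ring
  refine ⟨c, Nat.card (Sylow p G), hKm c ⟨_, (mul_assoc _ _ _).symm.trans hm |>.symm⟩ ?_, haut, hm,
    Eq.trans (card_sylow_modEq_one p G) (Nat.mod_eq_of_lt hp.one_lt), hc⟩
  intro q hq hqc
  haveI := Fact.mk hq
  obtain ⟨y, hy⟩ := exists_prime_orderOf_dvd_card' (G := centralizer ((X : Subgroup G) : Set G)) q (hc ▸ hqc.mul_left p)
  rcases hK q hq y y.2 (by rw [Subgroup.orderOf_coe, hy]) with rfl | h
  · exfalso
    apply hr0
    rw [← hr]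
    exact Nat.mod_eq_zero_of_dvd (hqc.trans ⟨_, (mul_assoc _ _ _).symm.trans hm |>.symm⟩)
  · exact h

theorem shape_of_card {p : ℕ} [Fact p.Prime] (X : Sylow p G) (hX : Nat.card (X : Subgroup G) = p) {e : ℕ}
    (hC : Nat.card (centralizer ((X : Subgroup G) : Set G)) = p)
    (he : Nat.card (normalizerMonoidHom (X : Subgroup G)).range = e) : NormShape X e := by
  haveI : IsCyclic (X : Subgroup G) := isCyclic_of_prime_card hX
  have hCX : centralizer ((X : Subgroup G) : Set G) = (X : Subgroup G) :=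
    (eq_of_le_of_card_ge (Subgroup.le_centralizer _) (by rw [hC, hX])).symm
  set φ := normalizerMonoidHom (X : Subgroup G) with hφ
  have hk : φ.ker = (X : Subgroup G).subgroupOf (normalizer ((X : Subgroup G) : Set G)) := by
    rw [hφ, normalizerMonoidHom_ker, hCX]
  haveI hn : ((X : Subgroup G).subgroupOf (normalizer ((X : Subgroup G) : Set G))).Normal := hk ▸ φ.normal_ker
  have E : (↥(normalizer ((X : Subgroup G) : Set G)) ⧸ (X : Subgroup G).subgroupOf _) ≃* φ.range :=
    (QuotientGroup.quotientMulEquivOfEq hk.symm).trans (QuotientGroup.quotientKerEquivRange φ)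
  haveI : IsCyclic (MulAut (X : Subgroup G)) := by
    haveI : NeZero (Nat.card (X : Subgroup G)) := ⟨Nat.card_pos.ne'⟩
    haveI : Fact (Nat.card (X : Subgroup G)).Prime := ⟨hX.symm ▸ Fact.out⟩
    exact isCyclic_of_surjective (IsCyclic.mulAutMulEquiv (X : Subgroup G)).symm.toMonoidHom
      (IsCyclic.mulAutMulEquiv (X : Subgroup G)).symm.surjective
  exact ⟨hCX, hn, E.isCyclic.2 inferInstance, by rw [Nat.card_congr E.toEquiv, he]⟩

theorem orderOf_range_lift {N M : Type*} [Group N] [Finite N] [Group M] (φ : N →* M) {b : M} (hb : b ∈ φ.range) :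
    ∃ w : N, orderOf w = orderOf b := by
  obtain ⟨u, rfl⟩ := hb
  obtain ⟨k, hk⟩ := orderOf_map_dvd φ u
  have hk0 : k ≠ 0 := by
    rintro rfl
    rw [mul_zero] at hk
    exact (orderOf_pos u).ne' hk
  refine ⟨u ^ k, ?_⟩
  rw [orderOf_pow_of_dvd hk0 (hk ▸ dvd_mul_left _ _), hk, Nat.mul_div_cancel _ (Nat.pos_of_ne_zero hk0)]

theorem shape_seventeen [IsSimpleGroup G] (hG : Nat.card G = 50232960)
    (h2 : ∀ s y : G, orderOf s = 2 → orderOf y = 17 → ¬ Commute s y)
    (h19 : ∀ x y : G, orderOf x = 19 → orderOf y = 17 → ¬ Commute x y)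
    (h16 : ∀ w : G, orderOf w ≠ 16) (Y : Sylow 17 G) : NormShape Y 8 := by
  haveI : Fact (Nat.Prime 17) := ⟨by norm_num⟩
  have hGm : Nat.card G = 17 * 2954880 := by rw [hG]
  have hY := sylow_card_prime hGm (r := 8) (by norm_num) (by norm_num) Y
  obtain ⟨y0, hy0⟩ := exists_prime_orderOf_dvd_card' (G := (Y : Subgroup G)) 17 (by rw [hY])
  obtain ⟨c, n, hc, he, hm, hn1, hC⟩ := sylow_data hGm (r := 8) (by norm_num) (by norm_num) Y (K := 1215) (by
    intro q hq y hy hyq
    have hcy : Commute y (y0 : G) := (mem_centralizer_iff.1 hy _ y0.2).symm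
    have hy0' : orderOf (y0 : G) = 17 := by rw [Subgroup.orderOf_coe, hy0]
    have hdvd : q ∣ 50232960 := hG ▸ hyq ▸ orderOf_dvd_natCard y
    by_contra hcon
    push Not at hcon
    have hq2 : q ≠ 2 := fun e => h2 y y0 (hyq.trans e) hy0' hcy
    have hq19 : q ≠ 19 := fun e => h19 y y0 (hyq.trans e) hy0' hcy
    rw [show 50232960 = 2 ^ 7 * 3 ^ 5 * 5 * 17 * 19 by norm_num] at hdvd
    rcases hq.dvd_mul.1 hdvd with h | h
    · rcases hq.dvd_mul.1 h with h | h
      · rcases hq.dvd_mul.1 h with h | h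
        · rcases hq.dvd_mul.1 h with h | h
          · exact hq2 ((Nat.prime_dvd_prime_iff_eq hq Nat.prime_two).1 (hq.dvd_of_dvd_pow h))
          · rw [(Nat.prime_dvd_prime_iff_eq hq Nat.prime_three).1 (hq.dvd_of_dvd_pow h)] at hcon
            exact absurd hcon.2 (by norm_num)
        · rw [(Nat.prime_dvd_prime_iff_eq hq (by norm_num)).1 h] at hcon
          exact absurd hcon.2 (by norm_num)
      · exact hcon.1 ((Nat.prime_dvd_prime_iff_eq hq (by norm_num)).1 h)
    · exact hq19 ((Nat.prime_dvd_prime_iff_eq hq (by norm_num)).1 h))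
    (by
      intro c hc hq
      have : c ∣ 2432 * 1215 := hc
      refine (Nat.Coprime.dvd_of_dvd_mul_left ?_ this)
      refine Nat.coprime_of_dvd fun k hk hkc hk2 => hq k hk hkc ?_
      exact Nat.Coprime.coprime_dvd_left hk2 (by norm_num))
  set e := Nat.card (normalizerMonoidHom (Y : Subgroup G)).range with hedef
  have key : ∀ c ∈ Nat.divisors 1215, ∀ e ∈ Nat.divisors 16, c * e ∣ 2954880 → 2954880 / (c * e) % 17 = 1 →
      (c = 1 ∧ e = 8) ∨ e = 16 ∨ e = 1 := by decide +kernel
  have hce : 0 < c * e := by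
    rcases Nat.eq_zero_or_pos (c * e) with h | h
    · rw [h] at hm; omega
    · exact h
  have hdiv : 2954880 / (c * e) = n := by rw [← hm, Nat.mul_div_cancel_left _ hce]
  rcases key c (Nat.mem_divisors.2 ⟨hc, by norm_num⟩) e (Nat.mem_divisors.2 ⟨by simpa using he, by norm_num⟩)
    ⟨n, hm.symm⟩ (hdiv ▸ hn1) with ⟨rfl, he8⟩ | he16 | he1
  · exact shape_of_card Y hY (by rw [hC, mul_one]) he8
  · exfalso
    haveI : IsCyclic (Y : Subgroup G) := isCyclic_of_prime_card hY
    haveI : IsCyclic (MulAut (Y : Subgroup G)) := by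
      haveI : Fact (Nat.card (Y : Subgroup G)).Prime := ⟨hY.symm ▸ Fact.out⟩
      exact isCyclic_of_surjective (IsCyclic.mulAutMulEquiv (Y : Subgroup G)).symm.toMonoidHom
        (IsCyclic.mulAutMulEquiv (Y : Subgroup G)).symm.surjective
    obtain ⟨b, hb⟩ := IsCyclic.exists_ofOrder_eq_natCard (α := (normalizerMonoidHom (Y : Subgroup G)).range)
    obtain ⟨w, hw⟩ := orderOf_range_lift _ b.2
    exact h16 w (by rw [Subgroup.orderOf_coe, hw, Subgroup.orderOf_coe, hb, ← hedef, he16])
  · exfalso
    have hle : normalizer ((Y : Subgroup G) : Set G) ≤ centralizer ((Y : Subgroup G) : Set G) := by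
      intro g hg
      have h1 : normalizerMonoidHom (Y : Subgroup G) ⟨g, hg⟩ = 1 := by
        have hb : (normalizerMonoidHom (Y : Subgroup G)).range = ⊥ := card_eq_one.1 he1
        exact mem_bot.1 (hb ▸ ⟨_, rfl⟩)
      have h2 := (SetLike.ext_iff.1 (normalizerMonoidHom_ker (Y : Subgroup G)) ⟨g, hg⟩).1 h1
      exact mem_subgroupOf.1 h2
    have hcompl := MonoidHom.ker_transferSylow_isComplement' Y hle
    rcases (MonoidHom.transferSylow Y hle).normal_ker.eq_bot_or_eq_top with h | h
    · have := hcompl.card_mul_card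
      rw [h, Subgroup.card_bot, hY, hG] at this
      norm_num at this
    · have := hcompl.card_mul_card
      rw [h, Subgroup.card_top, hY, hG] at this
      norm_num at this

theorem shape_nineteen (hG : Nat.card G = 50232960) {x₀ w₀ : G} (hx : orderOf x₀ = 19)
    (hw : w₀ * x₀ * w₀⁻¹ = x₀ ^ 4) (hcx : ∀ y : G, Commute y x₀ → (orderOf y).Prime → orderOf y = 3 ∨ orderOf y = 19)
    (X : Sylow 19 G) : NormShape X 9 := by
  haveI : Fact (Nat.Prime 19) := ⟨by norm_num⟩
  have hGm : Nat.card G = 19 * 2643840 := by rw [hG]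
  have hX := sylow_card_prime hGm (r := 9) (by norm_num) (by norm_num) X
  let X₀ : Sylow 19 G := Sylow.ofCard (zpowers x₀) (by
    have h := sylow_card_prime hGm (r := 9) (by norm_num) (by norm_num) X
    rw [X.card_eq_multiplicity] at h
    rw [Nat.card_zpowers, hx, h])
  obtain ⟨g, hg⟩ := MulAction.exists_smul_eq G X₀ X
  set x := g * x₀ * g⁻¹ with hxdef
  set w := g * w₀ * g⁻¹ with hwdef
  have hxX : x ∈ (X : Subgroup G) := by
    rw [← hg, Sylow.coe_subgroup_smul]
    exact ⟨x₀, mem_zpowers x₀, rfl⟩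
  have hox : orderOf x = 19 := by
    rw [hxdef]
    exact (MulEquiv.orderOf_eq (MulAut.conj g) x₀).trans hx
  have hXz : (X : Subgroup G) = zpowers x :=
    (eq_of_le_of_card_ge (zpowers_le.2 hxX) (by rw [hX, Nat.card_zpowers, hox])).symm
  have hwx : w * x * w⁻¹ = x ^ 4 := by
    rw [hxdef, hwdef, conj_pow, ← hw]; group
  obtain ⟨c, n, hc, he, hm, hn1, hC⟩ := sylow_data hGm (r := 9) (by norm_num) (by norm_num) X (K := 243) (by
    intro q hq y hy hyq
    have hcy : Commute y x := (mem_centralizer_iff.1 hy _ hxX).symm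
    have hcy₀ : Commute (g⁻¹ * y * g) x₀ := by
      have h : y * (g * x₀ * g⁻¹) = g * x₀ * g⁻¹ * y := hcy.eq
      calc g⁻¹ * y * g * x₀ = g⁻¹ * (y * (g * x₀ * g⁻¹)) * g := by group
        _ = x₀ * (g⁻¹ * y * g) := by rw [h]; group
    have ho : orderOf (g⁻¹ * y * g) = q := by
      rw [← hyq]
      simpa using MulEquiv.orderOf_eq (MulAut.conj g⁻¹) y
    rcases hcx _ hcy₀ (ho.symm ▸ hq) with h | h
    · right
      rw [← ho, h]
      norm_num
    · exact Or.inl (ho ▸ h))
    (by
      intro c hc hq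
      have : c ∣ 10880 * 243 := hc
      refine (Nat.Coprime.dvd_of_dvd_mul_left ?_ this)
      refine Nat.coprime_of_dvd fun k hk hkc hk2 => hq k hk hkc ?_
      exact Nat.Coprime.coprime_dvd_left hk2 (by norm_num))
  set e := Nat.card (normalizerMonoidHom (X : Subgroup G)).range with hedef
  have h9 : 9 ∣ e := by
    have hwN : w ∈ normalizer ((X : Subgroup G) : Set G) := by
      have hmap : (zpowers x).map (MulAut.conj w).toMonoidHom = zpowers x := by
        refine eq_of_le_of_card_ge ?_ (by rw [card_map_of_injective (MulAut.conj w).injective])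
        rw [MonoidHom.map_zpowers, zpowers_le]
        show w * x * w⁻¹ ∈ _
        rw [hwx]; exact pow_mem (mem_zpowers x) 4
      rw [hXz, mem_normalizer_iff]
      intro h
      constructor
      · intro hh; rw [← hmap]; exact ⟨h, hh, rfl⟩
      · intro hh
        rw [← hmap] at hh
        obtain ⟨h', hh', he'⟩ := hh
        have : h' = h := (MulAut.conj w).injective he'
        exact this ▸ hh'
    set a := normalizerMonoidHom (X : Subgroup G) ⟨w, hwN⟩ with hadef
    have hpow : ∀ k : ℕ, ((a ^ k) ⟨x, hxX⟩ : G) = x ^ (4 ^ k) := by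
      intro k
      induction k with
      | zero => simp
      | succ k ih =>
        rw [pow_succ', MulAut.mul_apply]
        show w * _ * w⁻¹ = _
        rw [ih, ← conj_pow, hwx, ← pow_mul, pow_succ']
    have hfix : ∀ k : ℕ, a ^ k = 1 ↔ x ^ (4 ^ k) = x := by
      intro k
      constructor
      · intro h; rw [← hpow k, h]; rfl
      · intro h
        ext z
        obtain ⟨i, hi⟩ := mem_zpowers_iff.1 (hXz ▸ z.2 : (z : G) ∈ zpowers x)
        have hz : z = (⟨x, hxX⟩ : (X : Subgroup G)) ^ i := Subtype.ext (by rw [SubgroupClass.coe_zpow]; exact hi.symm)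
        rw [MulAut.one_apply, hz, map_zpow]
        simp only [SubgroupClass.coe_zpow]
        rw [hpow k, h]
    have hmod : ∀ k : ℕ, x ^ (4 ^ k) = x ↔ 4 ^ k % 19 = 1 := by
      intro k
      conv_lhs => rw [← pow_mod_orderOf, hox]; rhs; rw [← pow_one x]
      constructor
      · intro h
        have := pow_inj_mod.1 h
        rw [hox, Nat.mod_mod] at this
        exact this
      · intro h; rw [h]
    haveI : Fact (Nat.Prime 3) := ⟨Nat.prime_three⟩
    have ha : orderOf a = 9 := orderOf_eq_prime_pow (p := 3) (n := 1)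
      (by rw [hfix, hmod]; norm_num) (by rw [hfix, hmod]; norm_num)
    rw [← ha, hedef]
    exact (Subgroup.orderOf_mk (H := (normalizerMonoidHom (X : Subgroup G)).range) a ⟨_, rfl⟩) ▸
      orderOf_dvd_natCard (⟨a, ⟨_, rfl⟩⟩ : (normalizerMonoidHom (X : Subgroup G)).range)
  have key : ∀ c ∈ Nat.divisors 243, ∀ e ∈ Nat.divisors 18, 9 ∣ e → c * e ∣ 2643840 →
      2643840 / (c * e) % 19 = 1 → c = 1 ∧ e = 9 := by decide +kernel
  have hce : 0 < c * e := by
    rcases Nat.eq_zero_or_pos (c * e) with h | h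
    · rw [h] at hm; omega
    · exact h
  have hdiv : 2643840 / (c * e) = n := by rw [← hm, Nat.mul_div_cancel_left _ hce]
  obtain ⟨rfl, he9⟩ := key c (Nat.mem_divisors.2 ⟨hc, by norm_num⟩) e
    (Nat.mem_divisors.2 ⟨by simpa using he, by norm_num⟩) h9 ⟨n, hm.symm⟩ (hdiv ▸ hn1)
  exact shape_of_card X hX (by rw [hC, mul_one]) he9

end CfsgLib.Known.JankoThreeNorm
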